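import Cfsg.Agent.Lib.BenderConsumers23.Simple
import Cfsg.Agent.Lib.BenderOne.Final
import Cfsg.Agent.Lib.BenderSuzuki.Main
import Cfsg.Agent.Lib.U3Sylow.Coords
import Cfsg.Agent.Lib.SolvCentAb12.Simple
import Cfsg.Agent.Lib.Spectrum.EPPOPrimes
import Cfsg.Agent.Lib.Linear.SmallIso.PSL5
import Cfsg.Agent.S0252
import Cfsg.Agent.Lib.DicksonId.MaxCommon
import Cfsg.Prelude.Def_Sporadic

/-!
# Simple groups in which `N(⟨x⟩)` centralises every 2-element `x`

The involutions of a Sylow 2-subgroup `S` commute and form, with 1, a strongly closed abelian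
subgroup; Goldschmidt's theorem leaves an abelian `S` (Walter) or a strongly embedded subgroup
(Bender), and in `PSU(3, 2ⁿ)` some element of order 4 is conjugate to its inverse.

Owner: helper49.
-/

set_option autoImplicit false
set_option linter.style.haveILetI false
set_option linter.unusedSectionVars false

universe u

namespace Cfsg.Agent.Lib.TwoReal49

open Cfsg.Agent.Lib

/-- Goldschmidt's theorem (the statement S1169). -/
def PropStronglyClosed.{w} : Prop :=
  ∀ (G : Type w) [Group G] [Finite G] [IsSimpleGroup G] (S : Sylow 2 G) (A : Subgroup G), A ≠ ⊥ →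
    IsMulCommutative A → Cfsg.IsStronglyClosed A (S : Subgroup G) →
    IsMulCommutative (S : Subgroup G) ∨ ∃ H : Subgroup G, Cfsg.IsStronglyEmbedded H

/-- Walter's theorem (the statement S0506). -/
def PropAbelianSylow.{w} : Prop :=
  ∀ (G : Type w) [Group G] [Finite G] [IsSimpleGroup G], ¬ IsMulCommutative G → ∀ (S : Sylow 2 G),
    IsMulCommutative (S : Subgroup G) →
    (∃ a : ℕ, 2 ≤ a ∧ ∃ (F : Type) (_ : Field F) (_ : Fintype F), Fintype.card F = 2 ^ a ∧
      Nonempty (G ≃* Matrix.ProjectiveSpecialLinearGroup (Fin 2) F)) ∨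
    (∃ (F : Type) (_ : Field F) (_ : Fintype F), (Fintype.card F % 8 = 3 ∨ Fintype.card F % 8 = 5) ∧
      Nonempty (G ≃* Matrix.ProjectiveSpecialLinearGroup (Fin 2) F)) ∨
    Cfsg.IsRee G ∨ Cfsg.IsJ1 G

variable {G : Type u} [Group G]

/-- No 2-element is inverted non-trivially. -/
def NoReal (G : Type u) [Group G] : Prop :=
  ∀ x : G, (∀ r : ℕ, r.Prime → r ∣ orderOf x → r = 2) →
    Subgroup.normalizer ((Subgroup.zpowers x : Subgroup G) : Set G) ≤ Subgroup.centralizer {x}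

theorem eq_of_conj_eq_inv (h : NoReal G) {x y : G} {k : ℕ} (hx : orderOf x ∣ 2 ^ k)
    (hy : y * x * y⁻¹ = x⁻¹) : x⁻¹ = x := by
  have hN : y ∈ Subgroup.normalizer ((Subgroup.zpowers x : Subgroup G) : Set G) := by
    rw [Subgroup.mem_normalizer_iff]
    intro z
    have key : ∀ j : ℤ, y * x ^ j * y⁻¹ = x ^ (-j) := fun j => by
      rw [← conj_zpow, hy, inv_zpow']
    constructor
    · rintro ⟨j, rfl⟩
      exact ⟨-j, (key j).symm⟩
    · rintro ⟨j, hj⟩
      refine ⟨-j, mul_left_cancel (a := y) (mul_right_cancel (b := y⁻¹) ?_)⟩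
      simp only at hj ⊢
      rw [key, neg_neg, hj]
  have hc := Subgroup.mem_centralizer_singleton_iff.1 (h x (fun r hr hd =>
    (Nat.prime_dvd_prime_iff_eq hr Nat.prime_two).1 (hr.dvd_of_dvd_pow (hd.trans hx))) hN)
  rw [← hy, hc, mul_inv_cancel_right]

variable [Finite G]

theorem comm_of_involutions (h : NoReal G) (S : Sylow 2 G) {s t : G} (hs : s ∈ (S : Subgroup G))
    (ht : t ∈ (S : Subgroup G)) (hs2 : s * s = 1) (ht2 : t * t = 1) : s * t = t * s := by
  haveI : Fact (Nat.Prime 2) := ⟨Nat.prime_two⟩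
  obtain ⟨k, hk⟩ := IsPGroup.iff_orderOf.1 S.isPGroup' ⟨s * t, mul_mem hs ht⟩
  have hk' : orderOf (s * t) ∣ 2 ^ k := by
    rw [← hk, ← Subgroup.orderOf_coe]
  have hsi : s⁻¹ = s := inv_eq_of_mul_eq_one_right hs2
  have hti : t⁻¹ = t := inv_eq_of_mul_eq_one_right ht2
  have he : s * (s * t) * s⁻¹ = (s * t)⁻¹ := by
    rw [← mul_assoc, hs2, one_mul, mul_inv_rev, hti]
  have := eq_of_conj_eq_inv h hk' he
  rw [mul_inv_rev, hsi, hti] at this
  exact this.symm

/-- The involutions of `S` together with `1`. -/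
def invSub (h : NoReal G) (S : Sylow 2 G) : Subgroup G where
  carrier := {x | x ∈ (S : Subgroup G) ∧ x * x = 1}
  one_mem' := ⟨one_mem _, one_mul 1⟩
  mul_mem' {a b} ha hb := ⟨mul_mem ha.1 hb.1, by
    rw [mul_assoc, ← mul_assoc b a b, ← comm_of_involutions h S ha.1 hb.1 ha.2 hb.2,
      mul_assoc a b b, hb.2, mul_one, ha.2]⟩
  inv_mem' {a} ha := ⟨inv_mem ha.1, by rw [inv_eq_of_mul_eq_one_right ha.2, ha.2]⟩

theorem invSub_closed (h : NoReal G) (S : Sylow 2 G) :
    Cfsg.IsStronglyClosed (invSub h S) (S : Subgroup G) := by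
  refine ⟨fun x hx => hx.1, fun x hx g hg => ⟨hg, ?_⟩⟩
  rw [← pow_two, conj_pow, pow_two, hx.2, mul_one, mul_inv_cancel]

theorem invSub_comm (h : NoReal G) (S : Sylow 2 G) : IsMulCommutative ↥(invSub h S) :=
  ⟨⟨fun a b => Subtype.ext (comm_of_involutions h S a.2.1 b.2.1 a.2.2 b.2.2)⟩⟩

theorem invSub_ne_bot [IsSimpleGroup G] (hna : ¬ IsMulCommutative G) (h : NoReal G)
    (S : Sylow 2 G) : invSub h S ≠ ⊥ := by
  haveI : Fact (Nat.Prime 2) := ⟨Nat.prime_two⟩
  obtain ⟨x, hx⟩ := exists_prime_orderOf_dvd_card' 2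
    (even_iff_two_dvd.1 (SolvCentAb12.even_card hna))
  have hP : IsPGroup 2 (Subgroup.zpowers x) :=
    IsPGroup.of_card (n := 1) (by rw [Nat.card_zpowers, hx, pow_one])
  obtain ⟨T, hT⟩ := hP.exists_le_sylow
  obtain ⟨g, hg⟩ := MulAction.exists_smul_eq G T S
  have hxS : g * x * g⁻¹ ∈ (S : Subgroup G) := by
    rw [← hg, Sylow.coe_subgroup_smul]
    exact Subgroup.mem_map.2 ⟨x, hT (Subgroup.mem_zpowers x), rfl⟩
  intro hb
  have hmem : g * x * g⁻¹ ∈ invSub h S := ⟨hxS, by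
    rw [← pow_two, conj_pow, show x ^ 2 = 1 from hx ▸ pow_orderOf_eq_one x, mul_one, mul_inv_cancel]⟩
  rw [hb, Subgroup.mem_bot, conj_eq_one_iff] at hmem
  rw [hmem, orderOf_one] at hx
  exact absurd hx (by norm_num)

theorem not_psu {F : Type} [Field F] [Fintype F] {n : ℕ} (hF : Fintype.card F = (2 ^ n) ^ 2)
    (e : G ≃* Cfsg.PSU 3 F (2 ^ n)) (h : NoReal G) : False := by
  haveI : Fact (Nat.Prime 2) := ⟨Nat.prime_two⟩
  haveI : Finite (Cfsg.PSU 3 F (2 ^ n)) := Finite.of_equiv _ e.toEquiv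
  haveI := U3Sylow.charP_two hF
  obtain ⟨P⟩ : Nonempty (Sylow 2 (Cfsg.PSU 3 F (2 ^ n))) := inferInstance
  obtain ⟨c⟩ := U3Sylow.exists_coords_PSU hF P
  obtain ⟨o, ho⟩ := U3Sylow.exists_pair hF (1 : F)
  obtain ⟨p, hp⟩ := U3Sylow.exists_pair hF o.1.2
  have ho2 : o.1.2 ^ 2 ^ n = o.1.2 + 1 := by
    have := o.2
    rw [ho, one_pow, mul_one] at this
    rw [← this, ← add_assoc, CharTwo.add_self_eq_zero, zero_add]
  set s := c.equiv.symm o with hs
  set t := c.equiv.symm p with ht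
  have hs1 : (c.equiv s).1.1 = 1 := by rw [hs, Equiv.apply_symm_apply, ho]
  have hs2 : (c.equiv s).1.2 = o.1.2 := by rw [hs, Equiv.apply_symm_apply]
  have ht1 : (c.equiv t).1.1 = o.1.2 := by rw [ht, Equiv.apply_symm_apply, hp]
  -- `t s = s⁻¹ t`, that is `s * (t * s) = t`
  have hk : s * (t * s) = t := by
    refine c.equiv.injective (Subtype.ext (Prod.ext ?_ ?_))
    · rw [c.mul_fst, c.mul_fst, hs1, add_comm (c.equiv t).1.1 1, ← add_assoc,
        CharTwo.add_self_eq_zero, zero_add]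
    · rw [c.mul_snd, c.mul_fst, c.mul_snd, hs1, hs2, ht1, ho2, one_pow, one_mul, mul_one]
      linear_combination (2 * o.1.2 + 1) * (CharTwo.two_eq_zero : (2 : F) = 0)
  have hconj : t * s * t⁻¹ = s⁻¹ := by
    rw [eq_comm, inv_eq_iff_mul_eq_one, ← mul_assoc, hk, mul_inv_cancel]
  have hsq : s * s ≠ 1 := by
    intro h1
    have hz := congrArg (fun z => (c.equiv z).1.2) h1
    have h00 : (c.equiv 1).1.1 = 0 := by
      have h := c.mul_fst 1 1
      rw [one_mul] at h
      linear_combination -h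
    have h01 : (c.equiv 1).1.2 = 0 := by
      have h := c.mul_snd 1 1
      rw [one_mul, h00, mul_zero, add_zero] at h
      linear_combination -h
    simp only [c.mul_snd, hs1, hs2, h01] at hz
    rw [CharTwo.add_self_eq_zero, one_pow, mul_one, zero_add] at hz
    exact one_ne_zero hz
  obtain ⟨k, hk2⟩ := IsPGroup.iff_orderOf.1 P.isPGroup' s
  have hord : orderOf (e.symm (s : Cfsg.PSU 3 F (2 ^ n))) ∣ 2 ^ k := by
    rw [MulEquiv.orderOf_eq, Subgroup.orderOf_coe, hk2]
  have := eq_of_conj_eq_inv h hord (y := e.symm (t : Cfsg.PSU 3 F (2 ^ n))) (by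
    rw [← map_inv, ← map_mul, ← map_mul, ← map_inv]
    exact congrArg e.symm (congrArg Subtype.val hconj))
  rw [← map_inv, e.symm.injective.eq_iff] at this
  apply hsq
  have hh : s⁻¹ = s := Subtype.ext this
  calc s * s = s⁻¹ * s := by rw [hh]
    _ = 1 := inv_mul_cancel s

theorem psl_even_card {F : Type} [Field F] [Fintype F] {a : ℕ} (ha : 2 ≤ a)
    (hF : Fintype.card F = 2 ^ a) (e : G ≃* Matrix.ProjectiveSpecialLinearGroup (Fin 2) F) :
    ∃ (K : Type) (_ : Field K) (_ : Fintype K), 4 ≤ Fintype.card K ∧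
      (Fintype.card K % 8 = 0 ∨ Fintype.card K % 8 = 3 ∨ Fintype.card K % 8 = 5) ∧
      Nonempty (G ≃* Matrix.ProjectiveSpecialLinearGroup (Fin 2) K) := by
  rcases eq_or_lt_of_le ha with rfl | h3
  · haveI : Fact (Nat.Prime 5) := ⟨by norm_num⟩
    obtain ⟨e4⟩ := Cfsg.Agent.S0252.result (show Fintype.card F = 4 by rw [hF]; norm_num)
    obtain ⟨e5⟩ := Linear.SmallIso.nonempty_psl_two_five (F := ZMod 5) (ZMod.card 5)
    exact ⟨ZMod 5, inferInstance, inferInstance, by rw [ZMod.card]; norm_num,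
      by rw [ZMod.card]; norm_num, ⟨(e.trans e4).trans e5.symm⟩⟩
  · have h8 : 8 ∣ Fintype.card F := by rw [hF]; exact pow_dvd_pow 2 h3
    have := Fintype.card_pos (α := F)
    refine ⟨F, inferInstance, inferInstance, ?_, Or.inl (Nat.dvd_iff_mod_eq_zero.1 h8), ⟨e⟩⟩
    have := Nat.le_of_dvd this h8
    omega

theorem not_psl_three [IsSimpleGroup G] {F : Type} [Field F] [Fintype F]
    (hq : Fintype.card F = 3) (e : G ≃* Matrix.ProjectiveSpecialLinearGroup (Fin 2) F) : False := by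
  classical
  haveI : Fact (Nat.Prime 3) := ⟨Nat.prime_three⟩
  haveI : CharP F 3 := charP_of_card_eq_prime hq
  have hmul := DicksonId.card_PSL_mul (F := F) (p := 3)
  rw [hq, show Nat.gcd 2 (3 - 1) = 2 from rfl, ← Nat.card_congr e.toEquiv] at hmul
  have h12 : Nat.card G = 12 := by omega
  obtain ⟨S⟩ : Nonempty (Sylow 2 G) := inferInstance
  haveI : Fact (Nat.Prime 2) := ⟨Nat.prime_two⟩
  have hS : Nat.card (S : Subgroup G) = 4 := by
    rw [Sylow.card_eq_multiplicity, h12, show (12 : ℕ).factorization 2 = 2 from ?_]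
    · rfl
    rw [Nat.factorization_def _ Nat.prime_two, show 12 = 2 ^ 2 * 3 from rfl,
      padicValNat.mul (by norm_num) (by norm_num), padicValNat.prime_pow,
      padicValNat.eq_zero_of_not_dvd (by norm_num)]
  have hidx : (S : Subgroup G).index = 3 := by
    have := (S : Subgroup G).card_mul_index
    rw [hS, h12] at this
    omega
  have hcore : (S : Subgroup G).normalCore = ⊥ :=
    ((S : Subgroup G).normalCore_normal.eq_bot_or_eq_top).resolve_right fun h => by
      have h1 : (⊤ : Subgroup G) ≤ (S : Subgroup G) := h ▸ (S : Subgroup G).normalCore_le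
      rw [top_le_iff.1 h1, Subgroup.index_top] at hidx
      omega
  have hinj : Function.Injective (MulAction.toPermHom G (G ⧸ (S : Subgroup G))) := by
    rw [← MonoidHom.ker_eq_bot_iff, ← Subgroup.normalCore_eq_ker, hcore]
  have := Nat.card_le_card_of_injective _ hinj
  rw [Nat.card_perm, ← Subgroup.index_eq_card, hidx, h12] at this
  norm_num [Nat.factorial] at this

/-- The classification. -/
theorem main [IsSimpleGroup G] (hG : PropStronglyClosed.{u}) (hW : PropAbelianSylow.{u})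
    (hna : ¬ IsMulCommutative G) (h : NoReal G) :
    (∃ (F : Type) (_ : Field F) (_ : Fintype F), 4 ≤ Fintype.card F ∧
        (Fintype.card F % 8 = 0 ∨ Fintype.card F % 8 = 3 ∨ Fintype.card F % 8 = 5) ∧
        Nonempty (G ≃* Matrix.ProjectiveSpecialLinearGroup (Fin 2) F)) ∨
    Cfsg.IsSuzuki G ∨ Cfsg.IsRee G ∨ Cfsg.IsJ1 G := by
  obtain ⟨S⟩ : Nonempty (Sylow 2 G) := inferInstance
  rcases hG G S (invSub h S) (invSub_ne_bot hna h S) (invSub_comm h S) (invSub_closed h S) with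
    hS | ⟨H, hH⟩
  · rcases hW G hna S hS with ⟨a, ha, F, i, j, hF, ⟨e⟩⟩ | ⟨F, i, j, hq, ⟨e⟩⟩ | hR | hJ
    · exact .inl (psl_even_card ha hF e)
    · refine .inl ⟨F, i, j, ?_, by omega, ⟨e⟩⟩
      by_contra hlt
      have h3 : Fintype.card F = 3 := by
        have := Fintype.one_lt_card (α := F)
        omega
      exact not_psl_three h3 e
    · exact .inr (.inr (.inl hR))
    · exact .inr (.inr (.inr hJ))
  · have hna' : ∃ a b : G, a * b ≠ b * a := by
      by_contra hc
      push Not at hc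
      exact hna ⟨⟨hc⟩⟩
    obtain ⟨hT, -⟩ := BenderConsumers23.simple_case BenderOne.propPartOneFinal
      BenderSuzuki.propMain hna' hH
    rcases hT with ⟨F, i, j, n, hn, hF, ⟨e⟩⟩ | ⟨F, i, j, m, hm, hF, ⟨e⟩⟩ | ⟨F, i, j, n, hn, hF, ⟨e⟩⟩
    · exact .inl (psl_even_card hn hF e)
    · refine .inr (.inl ⟨inferInstance, m, hm, ?_⟩)
      rw [Nat.card_congr e.toEquiv, Spectrum.EPPOPrimes.card_sz F hm hF, hF]
    · exact (not_psu hF e h).elim

end Cfsg.Agent.Lib.TwoReal49
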